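import Cfsg.Agent.Lib.Perm.LinDecomp.Reflect

/-!
# Monomial groups in four dimensions

Over a field with at least seven elements a non-monomial element together with the monomial elements of determinant
one produces a non-monomial element fixing a coordinate vector.
-/

set_option autoImplicit false
set_option linter.all false

namespace CfsgLib.Perm.Trans.FourLines

open scoped Matrix
open Matrix Cfsg.Geo CfsgLib.Perm.Asch CfsgLib.Perm.Trans CfsgLib.Perm.LinDecomp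

section General

variable {ι : Type} [Fintype ι] [DecidableEq ι] {F : Type*} [Field F] {M : Subgroup (GL ι F)}

/-- a non-monomial element fixing a coordinate vector gives all transvections -/
theorem fullSub_of_fixes [Fintype F] (hN : ∀ (σ : Equiv.Perm ι) (d : ι → Fˣ),
      (mon σ d : GL ι F) ∈ specialLinear ι F → mon σ d ∈ M) (h5 : 5 ≤ Fintype.card F) (hn : 4 ≤ Fintype.card ι)
    {J : Finset ι} {l : ι} (hl : l ∈ J) {g : GL ι F} (hgM : g ∈ M) (hgS : g ∈ specialLinear ι F) (hg : Fixes J g)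
    (hgm : ¬ Mono g) : fullSub M = ⊤ := by
  classical
  obtain ⟨ν, hν, hν2, -⟩ := exists_nu h5
  obtain ⟨φ, hφ⟩ : ∃ φ : ι → F, φ = Pi.single l 1 ᵥ* ((g⁻¹ : GL ι F) : Matrix ι ι F) - Pi.single l 1 := ⟨_, rfl⟩
  have hφx : ∀ x, φ ⬝ᵥ ((g : Matrix ι ι F) *ᵥ x) = x l - ((g : Matrix ι ι F) *ᵥ x) l := fun x => by
    rw [hφ, sub_dotProduct, ← dotProduct_mulVec, gl_inv_mulVec, single_dotProduct, single_dotProduct, one_mul,
      one_mul]
  have hφl : φ ⬝ᵥ Pi.single l 1 = 0 := by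
    have := hφx (Pi.single l 1)
    rwa [hg l hl, Pi.single_eq_same, sub_self] at this
  obtain ⟨g', hg'def⟩ : ∃ g', g' = tv (Pi.single l 1) φ hφl * g := ⟨_, rfl⟩
  have hg'x : ∀ x, (g' : Matrix ι ι F) *ᵥ x
      = (g : Matrix ι ι F) *ᵥ x + Pi.single l (x l - ((g : Matrix ι ι F) *ᵥ x) l) := fun x => by
    rw [hg'def, gl_mul_mulVec, tv_mulVec, hφx, ← Pi.single_smul, smul_eq_mul, mul_one]
  have hg'l : (g' : Matrix ι ι F) *ᵥ Pi.single l 1 = Pi.single l 1 := by
    rw [hg'x, hg l hl, Pi.single_eq_same, sub_self, Pi.single_zero, add_zero]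
  have hrow : ∀ x, ((g' : Matrix ι ι F) *ᵥ x) l = x l := fun x => by
    rw [hg'x, Pi.add_apply, Pi.single_eq_same, add_sub_cancel]
  have hmem : g' ∈ modLine M l := ⟨1, one_ne_zero, hg'l, g, hgM, hg l hl,
    fun x => ⟨((g : Matrix ι ι F) *ᵥ x) l - x l, by
      rw [hg'x, add_assoc, ← Pi.single_add, sub_add_sub_cancel, sub_self, Pi.single_zero, add_zero]⟩⟩
  by_cases hm : Mono g'
  · obtain ⟨σ, d, hσd⟩ := hm
    have hS : g' ∈ specialLinear ι F := hg'def ▸ Subgroup.mul_mem _ (tv_mem_SL _ _ hφl) hgS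
    refine fullSub_of_centre hN (by omega) hν (l := l) ⟨hφl, ?_⟩ (fun e => hgm ⟨σ, d, ?_⟩)
    · rw [eq_mul_inv_of_mul_eq hg'def.symm]
      exact M.mul_mem (hσd ▸ hN σ d (hσd ▸ hS)) (M.inv_mem hgM)
    · rw [← hσd, hg'def]
      exact gl_ext_vec fun x => by rw [gl_mul_mulVec, tv_mulVec, e, zero_dotProduct, zero_smul, add_zero]
  refine fullSub_of_modLine (l := l) hN (by omega) hν hν2 ?_
  obtain ⟨a, hcol⟩ : ∃ a, ∀ k, ∃ j, j ≠ k ∧ (g' : Matrix ι ι F) j a ≠ 0 := by
    by_contra hcon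
    push Not at hcon
    exact hm (mono_of_cols hcon)
  have hal : a ≠ l := fun e => by
    obtain ⟨j, hj, hj0⟩ := hcol l
    have := congrFun hg'l j
    rw [mulVec_single_col, Pi.single_eq_of_ne hj] at this
    exact hj0 (e ▸ this)
  have hNl : ∀ (σ : Equiv.Perm ι) (d : ι → Fˣ), σ l = l → (mon σ d : GL ι F) ∈ specialLinear ι F →
      mon σ d ∈ modLine M l := fun σ d => modLine_mon hN σ d
  set u : ι → F := (g' : Matrix ι ι F) *ᵥ Pi.single a 1 with hu
  set α : ι → F := fun k => ((g'⁻¹ : GL ι F) : Matrix ι ι F) a k with hα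
  have hyl : ∀ x, (((g'⁻¹ : GL ι F) : Matrix ι ι F) *ᵥ x) l = x l := by
    intro x
    have h1 := hrow (((g'⁻¹ : GL ι F) : Matrix ι ι F) *ᵥ x)
    rw [gl_mulVec_inv] at h1
    exact h1.symm
  have hul : u l = 0 := by rw [hu, hrow, Pi.single_eq_of_ne hal.symm]
  have hαl : α l = 0 := by
    show ((g'⁻¹ : GL ι F) : Matrix ι ι F) a l = 0
    rw [← mulVec_single_col ((g'⁻¹ : GL ι F) : Matrix ι ι F) l a, ← hg'l, gl_inv_mulVec, Pi.single_eq_of_ne hal]
  have hRf : Rf (modLine M l) ν l u α := by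
    refine ⟨hul, hαl, ?_, g' * tor a l ν * g'⁻¹, (modLine M l).mul_mem ((modLine M l).mul_mem hmem
      (hNl _ _ rfl (tor_mem_SL hal ν))) ((modLine M l).inv_mem hmem), fun x => ?_⟩
    · show (((g'⁻¹ : GL ι F) : Matrix ι ι F) *ᵥ u) a = 1
      rw [hu, gl_inv_mulVec, Pi.single_eq_same]
    · set y := ((g'⁻¹ : GL ι F) : Matrix ι ι F) *ᵥ x with hy
      have h1 : ((tor a l ν : GL ι F) : Matrix ι ι F) *ᵥ y
          = y + ((((ν : F) - 1) * y a) • Pi.single a 1 + (((ν : F)⁻¹ - 1) * y l) • Pi.single l 1) := by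
        funext k
        rw [tor_mulVec hal, Pi.add_apply, Pi.add_apply, Pi.smul_apply, Pi.smul_apply, smul_eq_mul, smul_eq_mul]
        split_ifs with h1 h2
        · subst h1; rw [Pi.single_eq_same, Pi.single_eq_of_ne hal]; ring
        · subst h2; rw [Pi.single_eq_same, Pi.single_eq_of_ne hal.symm]; ring
        · rw [Pi.single_eq_of_ne h1, Pi.single_eq_of_ne h2]; ring
      rw [gl_mul_mulVec, gl_mul_mulVec, ← hy, h1, Matrix.mulVec_add, Matrix.mulVec_add, Matrix.mulVec_smul,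
        Matrix.mulVec_smul, ← hu, hg'l, hy, gl_mulVec_inv, hyl, ← Pi.single_smul, smul_eq_mul, mul_one, ← add_assoc]
      rfl
  obtain ⟨j₁, -, hj₁⟩ := hcol a
  obtain ⟨j₂, hne, hj₂⟩ := hcol j₁
  refine elem_of_refl hNl h5 (by omega) hν hν2 hRf hne ?_ ?_
  · rw [hu, mulVec_single_col]; exact hj₂
  · rw [hu, mulVec_single_col]; exact hj₁

end General

variable {F : Type*} [Field F] {M : Subgroup (GL (Fin 4) F)}

local notation "M₄" => Matrix (Fin 4) (Fin 4) F

/-- a non-monomial element of `M` has a column with one entry -/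
def LineCol (M : Subgroup (GL (Fin 4) F)) : Prop :=
  ∃ y ∈ M, ¬ Mono y ∧ ∃ (l k : Fin 4) (c : F), (y : M₄) *ᵥ Pi.single l 1 = Pi.single k c

theorem diag_mulVec (d : Fin 4 → Fˣ) (x : Fin 4 → F) (k : Fin 4) :
    (((mon 1 d : GL (Fin 4) F) : M₄) *ᵥ x) k = (d k : F) * x k := by
  rw [mon_mulVec]
  rfl

theorem diag_mem (hN : ∀ (σ : Equiv.Perm (Fin 4)) (d : Fin 4 → Fˣ),
      (mon σ d : GL (Fin 4) F) ∈ specialLinear (Fin 4) F → mon σ d ∈ M) (d : Fin 4 → Fˣ) (h : ∏ k, d k = 1) :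
    (mon 1 d : GL (Fin 4) F) ∈ M :=
  hN 1 d (mon_mem_SL (by rw [map_one, Units.val_one, Int.cast_one, one_mul, ← Units.coe_prod, h, Units.val_one]))

theorem row_exists (g : GL (Fin 4) F) (r : Fin 4) : ∃ j, (g : M₄) r j ≠ 0 := by
  by_contra h
  push Not at h
  have e : ((g : M₄) * ((g⁻¹ : GL (Fin 4) F) : M₄)) r r = (1 : M₄) r r := by rw [Units.mul_inv]
  rw [Matrix.mul_apply, Matrix.one_apply_eq, Finset.sum_eq_zero (fun j _ => by rw [h j, zero_mul])] at e
  exact zero_ne_one e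

theorem fixes_of_lineCol (hN : ∀ (σ : Equiv.Perm (Fin 4)) (d : Fin 4 → Fˣ),
      (mon σ d : GL (Fin 4) F) ∈ specialLinear (Fin 4) F → mon σ d ∈ M) (h : LineCol M) :
    ∃ (l : Fin 4) (y : GL (Fin 4) F), y ∈ M ∧ Fixes {l} y ∧ ¬ Mono y := by
  obtain ⟨y, hy, hym, l, k, c, hc⟩ := h
  have hc0 : c ≠ 0 := fun e => by
    rw [e, Pi.single_zero, gl_mulVec_eq_zero] at hc
    simpa using congrFun hc l
  obtain ⟨o, ho⟩ := exists_ne k
  obtain ⟨u, hu⟩ : ∃ u : Fˣ, (u : F) = ((Equiv.Perm.sign (Equiv.swap k l) : ℤ) : F) :=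
    ⟨Units.map (Int.castRingHom F).toMonoidHom (Equiv.Perm.sign (Equiv.swap k l)), rfl⟩
  obtain ⟨d, hd⟩ : ∃ d, d = Function.update (Function.update (fun _ : Fin 4 => (1 : Fˣ)) k (Units.mk0 c hc0)⁻¹) o
      (u * Units.mk0 c hc0) := ⟨_, rfl⟩
  have hdk : d k = (Units.mk0 c hc0)⁻¹ := by rw [hd, Function.update_of_ne ho.symm, Function.update_self]
  have hu2 : u * u = 1 := Units.ext (by
    rw [Units.val_mul, hu, ← Int.cast_mul, ← Units.val_mul, Int.units_mul_self, Units.val_one, Int.cast_one,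
      Units.val_one])
  have hm : (mon (Equiv.swap k l) d : GL (Fin 4) F) ∈ M := by
    refine hN _ _ (mon_mem_SL ?_)
    rw [← hu, ← Units.coe_prod, ← Units.val_mul, hd, Finset.prod_update_of_mem (Finset.mem_univ o),
      Finset.prod_update_of_mem (by simp [ho.symm]), Finset.prod_const_one, mul_one]
    rw [show u * (u * Units.mk0 c hc0 * (Units.mk0 c hc0)⁻¹) = u * u by group, hu2, Units.val_one]
  refine ⟨l, mon (Equiv.swap k l) d * y, M.mul_mem hm hy, fun j hj => ?_, not_mono_mon_mul hym _ _⟩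
  rw [Finset.mem_singleton] at hj
  subst hj
  rw [gl_mul_mulVec, hc, mon_mulVec_single, Equiv.swap_apply_left, hdk, Units.val_inv_eq_inv_val, Units.val_mk0,
    inv_mul_cancel₀ hc0]

/-- a simple eigenvalue of a conjugate of a diagonal element gives a coordinate column -/
theorem col_of_simple {h : GL (Fin 4) F} {e Y : Fin 4 → Fˣ} (he : h⁻¹ * mon 1 e * h = mon 1 Y) {r : Fin 4}
    (hr : ∀ i, i ≠ r → e i ≠ e r) : ∃ j c, (h : M₄) *ᵥ Pi.single j 1 = Pi.single r c := by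
  have key : ∀ i j, (h : M₄) i j * (Y j : F) = (e i : F) * (h : M₄) i j := fun i j => by
    have e1 : h * mon 1 Y = mon 1 e * h := by rw [← he]; group
    have := congrArg (fun g : GL (Fin 4) F => ((g : M₄) *ᵥ Pi.single j 1) i) e1
    rw [gl_mul_mulVec, gl_mul_mulVec, diag_mulVec, mon_mulVec_single, mul_one, mulVec_single_col,
      show (Pi.single ((1 : Equiv.Perm (Fin 4)) j) (Y j : F) : Fin 4 → F) = (Y j : F) • Pi.single j 1 by
        rw [← Pi.single_smul, smul_eq_mul, mul_one]; rfl, mulVec_smul, Pi.smul_apply, mulVec_single_col,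
      smul_eq_mul] at this
    rw [← this, mul_comm]
  obtain ⟨j, hj⟩ := row_exists h r
  refine ⟨j, (h : M₄) r j, funext fun i => ?_⟩
  rw [mulVec_single_col]
  by_cases hi : i = r
  · subst hi; rw [Pi.single_eq_same]
  rw [Pi.single_eq_of_ne hi]
  have hY : (Y j : F) = e r := mul_left_cancel₀ hj (by rw [key, mul_comm])
  by_contra h0
  refine hr i hi (Units.ext ?_)
  rw [← hY]
  exact mul_right_cancel₀ h0 (by rw [← key, mul_comm])

theorem perm_fix : ∀ (π : Equiv.Perm (Fin 4)) (p : Fin 4), π p = p →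
    π = 1 ∨ π * π = 1 ∨ (π * π * π = 1 ∧ Equiv.Perm.sign π = 1 ∧
      ∀ j, j ≠ p → Function.Injective ![p, j, π j, π (π j)]) := by
  unfold Function.Injective
  decide +kernel

/-- two zeros in a column -/
theorem lineCol_two (hN : ∀ (σ : Equiv.Perm (Fin 4)) (d : Fin 4 → Fˣ),
      (mon σ d : GL (Fin 4) F) ∈ specialLinear (Fin 4) F → mon σ d ∈ M) {ν : Fˣ} (h2 : ν ^ 2 ≠ 1) (h3 : ν ^ 3 ≠ 1)
    (h4 : ν ^ 4 ≠ 1) {h : GL (Fin 4) F} (hh : h ∈ M) (hhm : ¬ Mono h) {r s p : Fin 4} (hrs : r ≠ s)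
    (hr : (h : M₄) r p = 0) (hs : (h : M₄) s p = 0) : LineCol M := by
  classical
  obtain ⟨e, he⟩ : ∃ e : Fin 4 → Fˣ, e = Function.update (Function.update (fun _ => 1) r ν) s ν⁻¹ := ⟨_, rfl⟩
  have htor : tor r s ν = (mon 1 e : GL (Fin 4) F) := by rw [he]; rfl
  have her : e r = ν := by rw [he, Function.update_of_ne hrs, Function.update_self]
  have hes : e s = ν⁻¹ := by rw [he, Function.update_self]
  have heo : ∀ i, i ≠ r → i ≠ s → e i = 1 := fun i h1 h2 => by
    rw [he, Function.update_of_ne h2, Function.update_of_ne h1]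
  obtain ⟨y, hy⟩ : ∃ y, y = h⁻¹ * mon 1 e * h := ⟨_, rfl⟩
  have heM : (mon 1 e : GL (Fin 4) F) ∈ M := htor ▸ hN _ _ (tor_mem_SL hrs ν)
  have hyM : y ∈ M := hy ▸ M.mul_mem (M.mul_mem (M.inv_mem hh) heM) hh
  have hyp : (y : M₄) *ᵥ Pi.single p 1 = Pi.single p 1 := by
    have : ((mon 1 e : GL (Fin 4) F) : M₄) *ᵥ ((h : M₄) *ᵥ Pi.single p 1) = (h : M₄) *ᵥ Pi.single p 1 := funext fun k => by
      rw [diag_mulVec, mulVec_single_col]
      by_cases k1 : k = r
      · rw [k1, hr, mul_zero]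
      by_cases k2 : k = s
      · rw [k2, hs, mul_zero]
      rw [heo k k1 k2, Units.val_one, one_mul]
    rw [hy, gl_mul_mulVec, gl_mul_mulVec, this, gl_inv_mulVec]
  by_cases hym : Mono y
  swap
  · exact ⟨y, hyM, hym, p, p, 1, hyp⟩
  obtain ⟨π, d, hd⟩ := hym
  rw [hd, mon_mulVec_single] at hyp
  have hπp : π p = p := by
    by_contra hne
    have := congrFun hyp p
    rw [Pi.single_eq_same, Pi.single_eq_of_ne (Ne.symm hne)] at this
    exact zero_ne_one this
  have hdp : d p = 1 := Units.ext (by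
    have := congrFun hyp p
    rw [hπp, Pi.single_eq_same, Pi.single_eq_same, mul_one] at this
    rw [this, Units.val_one])
  have finish : ∀ (e' Y : Fin 4 → Fˣ), h⁻¹ * mon 1 e' * h = mon 1 Y → (∀ i, i ≠ r → e' i ≠ e' r) → LineCol M :=
    fun e' Y hY hsimp => by
      obtain ⟨j, c, hc⟩ := col_of_simple hY hsimp
      exact ⟨h, hh, hhm, j, r, c, hc⟩
  have hν1 : ν ≠ 1 := fun e1 => h2 (by rw [e1, one_pow])
  have hpow2 : h⁻¹ * mon 1 (fun i => e i * e i) * h = y * y := by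
    rw [hy, show h⁻¹ * mon 1 e * h * (h⁻¹ * mon 1 e * h) = h⁻¹ * (mon 1 e * mon 1 e) * h by group, mon_mul, mul_one]
    rfl
  rcases perm_fix π p hπp with h1 | h1 | ⟨h1, hsg, hinj⟩
  · refine finish e d (by rw [← hy, hd, h1]) fun i hi => ?_
    rw [her]
    by_cases his : i = s
    · rw [his, hes]; exact fun h' => h2 (by rw [sq]; nth_rw 1 [← h']; rw [inv_mul_cancel])
    · rw [heo i hi his]; exact hν1.symm
  · refine finish _ _ (by rw [hpow2, hd, mon_mul, h1]) fun i hi => ?_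
    simp only [her]
    by_cases his : i = s
    · rw [his, hes]
      exact fun h' => h4 (by
        calc ν ^ 4 = (ν * ν) * (ν * ν) := by simp only [pow_succ, pow_zero, one_mul, mul_assoc]
          _ = (ν⁻¹ * ν⁻¹) * (ν * ν) := congrArg (· * (ν * ν)) h'.symm
          _ = 1 := by group)
    · rw [heo i hi his, one_mul, ← sq]; exact h2.symm
  exfalso
  have hprod : ∏ i, d i = 1 := by
    have hdet : ((y : GL (Fin 4) F) : M₄).det = 1 := by
      have := congrArg (fun g : GL (Fin 4) F => Matrix.GeneralLinearGroup.det g) hy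
      simp only [map_mul, map_inv] at this
      rw [mul_comm _ (Matrix.GeneralLinearGroup.det (mon 1 e : GL (Fin 4) F)), mul_assoc, inv_mul_cancel, mul_one,
        show Matrix.GeneralLinearGroup.det (mon 1 e : GL (Fin 4) F) = 1 from
          htor ▸ tor_mem_SL hrs ν] at this
      simpa using congrArg Units.val this
    rw [hd, det_mon, hsg, Units.val_one, Int.cast_one, one_mul] at hdet
    exact Units.ext (by rw [Units.coe_prod, hdet, Units.val_one])
  have h31 : h⁻¹ * mon 1 (fun i => e i * e i * e i) * h = 1 := by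
    have e3 : h⁻¹ * mon 1 (fun i => e i * e i * e i) * h = y * y * y := by
      rw [← hpow2, hy, show h⁻¹ * mon 1 (fun i => e i * e i) * h * (h⁻¹ * mon 1 e * h) =
        h⁻¹ * (mon 1 (fun i => e i * e i) * mon 1 e) * h by group, mon_mul, mul_one]
      rfl
    rw [e3, hd, mon_mul, mon_mul, h1, ← mon_one]
    congr 1
    funext j
    by_cases hj : j = p
    · rw [hj, hπp, hπp, hdp, one_mul, one_mul]
    · have := (Finite.injective_iff_bijective.1 (hinj j hj)).prod_comp d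
      rw [hprod, Fin.prod_univ_four] at this
      simp [hdp] at this
      rw [← this]
      ac_rfl
  have e1 : (mon 1 (fun i => e i * e i * e i) : GL (Fin 4) F) = 1 := by
    have := congrArg (fun g => h * g * h⁻¹) h31
    simpa [mul_assoc] using this
  refine h3 (Units.ext ?_)
  have := congrArg (fun g : GL (Fin 4) F => (g : M₄) r r) e1
  simp only [mon_apply, Units.val_one, Matrix.one_apply_eq, Equiv.Perm.coe_one, id, if_pos, her] at this
  rw [Units.val_one, pow_succ, sq, ← this]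

/-- one zero -/
theorem lineCol_zero (hN : ∀ (σ : Equiv.Perm (Fin 4)) (d : Fin 4 → Fˣ),
      (mon σ d : GL (Fin 4) F) ∈ specialLinear (Fin 4) F → mon σ d ∈ M) {ν : Fˣ} (h2 : ν ^ 2 ≠ 1) (h3 : ν ^ 3 ≠ 1)
    (h4 : ν ^ 4 ≠ 1) {g : GL (Fin 4) F} (hg : g ∈ M) (hgm : ¬ Mono g) {p l : Fin 4} (hpl : (g : M₄) p l = 0) :
    LineCol M := by
  classical
  obtain ⟨e, he⟩ : ∃ e : Fin 4 → Fˣ, e = Function.update (fun _ => ν) p (ν ^ 3)⁻¹ := ⟨_, rfl⟩
  have heM : (mon 1 e : GL (Fin 4) F) ∈ M := diag_mem hN e (by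
    rw [he, Finset.prod_update_of_mem (Finset.mem_univ p), Finset.prod_const,
      show (Finset.univ \ {p} : Finset (Fin 4)).card = 3 by rw [Finset.card_univ_diff]; simp, inv_mul_cancel])
  have hex : ∀ x : Fin 4 → F, ((mon 1 e : GL (Fin 4) F) : M₄) *ᵥ x =
      (ν : F) • x + (((((ν ^ 3)⁻¹ : Fˣ) : F) - (ν : F)) * x p) • Pi.single p 1 := fun x => funext fun k => by
    rw [diag_mulVec, he]
    by_cases hk : k = p
    · subst hk; simp; ring
    · simp [Function.update_of_ne hk, Pi.single_eq_of_ne hk]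
  obtain ⟨y, hy⟩ : ∃ y, y = g⁻¹ * mon 1 e * g := ⟨_, rfl⟩
  have hyM : y ∈ M := hy ▸ M.mul_mem (M.mul_mem (M.inv_mem hg) heM) hg
  obtain ⟨κ, hκ⟩ : ∃ κ : F, κ = (((ν ^ 3)⁻¹ : Fˣ) : F) - ν := ⟨_, rfl⟩
  have hκ0 : κ ≠ 0 := by
    rw [hκ, sub_ne_zero]
    exact fun h' => h4 (by rw [pow_succ]; nth_rw 2 [← Units.ext h']; rw [mul_inv_cancel])
  have hyx : ∀ a, (y : M₄) *ᵥ Pi.single a 1 = (ν : F) • Pi.single a 1 +
      (κ * (g : M₄) p a) • (((g⁻¹ : GL (Fin 4) F) : M₄) *ᵥ Pi.single p 1) := fun a => by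
    rw [hy, gl_mul_mulVec, gl_mul_mulVec, hex, mulVec_add, mulVec_smul, mulVec_smul, gl_inv_mulVec, ← hκ,
      mulVec_single_col]
  by_cases hym : Mono y
  swap
  · refine ⟨y, hyM, hym, l, l, ν, ?_⟩
    rw [hyx, hpl, mul_zero, zero_smul, add_zero, ← Pi.single_smul, smul_eq_mul, mul_one]
  obtain ⟨π, d, hd⟩ := hym
  obtain ⟨a, ha⟩ := row_exists g p
  obtain ⟨r, -, hr⟩ := Finset.exists_mem_notMem_of_card_lt_card (s := {a, π a}) (t := (Finset.univ : Finset (Fin 4)))
    (lt_of_le_of_lt Finset.card_le_two (by simp))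
  obtain ⟨s, -, hs⟩ := Finset.exists_mem_notMem_of_card_lt_card (s := {a, π a, r})
    (t := (Finset.univ : Finset (Fin 4))) (lt_of_le_of_lt Finset.card_le_three (by simp))
  simp only [Finset.mem_insert, Finset.mem_singleton, not_or] at hr hs
  have hz : ∀ i, i ≠ a → i ≠ π a → ((g⁻¹ : GL (Fin 4) F) : M₄) i p = 0 := fun i hia hiπ => by
    have := congrFun (hyx a) i
    rw [hd, mon_mulVec_single, Pi.single_eq_of_ne hiπ, Pi.add_apply, Pi.smul_apply, Pi.smul_apply,
      Pi.single_eq_of_ne hia, smul_zero, zero_add, smul_eq_mul, mulVec_single_col] at this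
    exact (mul_eq_zero.1 this.symm).resolve_left (mul_ne_zero hκ0 ha)
  exact lineCol_two hN h2 h3 h4 (M.inv_mem hg) (fun h' => hgm (by simpa using h'.inv)) (Ne.symm hs.2.2)
    (hz r hr.1 hr.2) (hz s hs.1 hs.2.1)

theorem perm_four : ∀ π : Equiv.Perm (Fin 4), (∀ j, π j ≠ j) → (∀ j, π (π j) ≠ j) →
    ∀ k, k = 0 ∨ k = π 0 ∨ k = π (π 0) ∨ k = π (π (π 0)) := by
  decide +kernel

/-- a conjugate of a diagonal element with few values is not monomial -/
theorem not_mono_conj {g : GL (Fin 4) F} (hne : ∀ i j, (g : M₄) i j ≠ 0) {e : Fin 4 → Fˣ} {p q a b : Fin 4}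
    (hpq : p ≠ q) (heq : e p = e q) (hab : e a * e a ≠ e b * e b) : ¬ Mono (g⁻¹ * mon 1 e * g) := by
  rintro ⟨π, w, hw⟩
  have key : ∀ k j, (e k : F) * (g : M₄) k j = (w j : F) * (g : M₄) k (π j) := fun k j => by
    have e1 : mon 1 e * g = g * mon π w := by rw [← hw]; group
    have := congrArg (fun x : GL (Fin 4) F => ((x : M₄) *ᵥ Pi.single j 1) k) e1
    rw [gl_mul_mulVec, gl_mul_mulVec, diag_mulVec, mulVec_single_col, mon_mulVec_single, mul_one,
      show (Pi.single (π j) (w j : F) : Fin 4 → F) = (w j : F) • Pi.single (π j) 1 by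
        rw [← Pi.single_smul, smul_eq_mul, mul_one], mulVec_smul, Pi.smul_apply, mulVec_single_col, smul_eq_mul] at this
    exact this
  have hfix : ∀ j, π (π j) ≠ j := by
    intro j hj
    refine hab (Units.ext ?_)
    have hall : ∀ k, ((e k * e k : Fˣ) : F) = (w j : F) * w (π j) := fun k => mul_right_cancel₀ (hne k j) (by
      rw [Units.val_mul, mul_assoc, key, mul_left_comm, key, hj, mul_assoc])
    rw [hall, hall]
  have hfix1 : ∀ j, π j ≠ j := fun j hj => hfix j (by rw [hj, hj])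
  obtain ⟨Φ, hΦ⟩ : ∃ Φ : Fin 4 → F, Φ = fun k => (g : M₄) q k * (g : M₄) p 0 - (g : M₄) p k * (g : M₄) q 0 :=
    ⟨_, rfl⟩
  have hstep : ∀ k, Φ k = 0 → Φ (π k) = 0 := fun k hk => by
    refine (mul_eq_zero.1 (show (w k : F) * Φ (π k) = 0 from ?_)).resolve_left (w k).ne_zero
    have hpq' : (e q : F) = e p := by rw [heq]
    rw [hΦ] at hk ⊢
    simp only at hk ⊢
    linear_combination (e p : F) * hk + (g : M₄) q 0 * key p k - (g : M₄) p 0 * key q k +
      (g : M₄) q k * (g : M₄) p 0 * hpq'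
  have h0 : Φ 0 = 0 := by rw [hΦ]; simp only; ring
  have hall : ∀ k, Φ k = 0 := fun k => by
    rcases perm_four π hfix1 hfix k with rfl | rfl | rfl | rfl
    exacts [h0, hstep _ h0, hstep _ (hstep _ h0), hstep _ (hstep _ (hstep _ h0))]
  have e1 : ((g : M₄) * ((g⁻¹ : GL (Fin 4) F) : M₄)) q q * (g : M₄) p 0 =
      ((g : M₄) * ((g⁻¹ : GL (Fin 4) F) : M₄)) p q * (g : M₄) q 0 := by
    rw [Matrix.mul_apply, Matrix.mul_apply, Finset.sum_mul, Finset.sum_mul]
    refine Finset.sum_congr rfl fun k _ => ?_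
    have := hall k
    rw [hΦ] at this
    linear_combination ((g⁻¹ : GL (Fin 4) F) : M₄) k q * this
  rw [Units.mul_inv, Matrix.one_apply_eq, Matrix.one_apply_ne hpq, one_mul, zero_mul] at e1
  exact hne p 0 e1

/-- a suitable diagonal element makes an entry vanish -/
theorem exists_zero [Fintype F] {a : Fin 4 → F} (ha : ∀ k, a k ≠ 0) (hsum : ∑ k, a k = 0) {ν : Fˣ} (h4 : ν ^ 4 ≠ 1) :
    ∃ e : Fin 4 → Fˣ, ∏ k, e k = 1 ∧ ∑ k, a k * (e k : F) = 0 ∧ (∃ p q, p ≠ q ∧ e p = e q) ∧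
      ∃ i j, e i * e i ≠ e j * e j := by
  classical
  by_cases hcase : ∃ p q, p ≠ q ∧ a q ≠ a p ∧ a q ≠ -a p
  · obtain ⟨p, q, hpq, h1, h2⟩ := hcase
    obtain ⟨t, ht⟩ : ∃ t : Fˣ, t = Units.mk0 (a q / a p) (div_ne_zero (ha q) (ha p)) := ⟨_, rfl⟩
    have htv : (t : F) * a p = a q := by rw [ht, Units.val_mk0, div_mul_cancel₀ _ (ha p)]
    obtain ⟨e, he⟩ : ∃ e : Fin 4 → Fˣ, e = Function.update (Function.update (fun _ => 1) p t) q t⁻¹ := ⟨_, rfl⟩
    have hep : e p = t := by rw [he, Function.update_of_ne hpq, Function.update_self]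
    have heo : ∀ i, i ≠ p → i ≠ q → e i = 1 := fun i h1 h2 => by
      rw [he, Function.update_of_ne h2, Function.update_of_ne h1]
    obtain ⟨r, -, hr⟩ := Finset.exists_mem_notMem_of_card_lt_card (s := {p, q}) (t := (Finset.univ : Finset (Fin 4)))
      (lt_of_le_of_lt Finset.card_le_two (by simp))
    obtain ⟨s, -, hs⟩ := Finset.exists_mem_notMem_of_card_lt_card (s := {p, q, r})
      (t := (Finset.univ : Finset (Fin 4))) (lt_of_le_of_lt Finset.card_le_three (by simp))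
    simp only [Finset.mem_insert, Finset.mem_singleton, not_or] at hr hs
    refine ⟨e, ?_, ?_, ⟨r, s, Ne.symm hs.2.2, by rw [heo r hr.1 hr.2, heo s hs.1 hs.2.1]⟩, p, r, ?_⟩
    · rw [he, Finset.prod_update_of_mem (Finset.mem_univ q), Finset.prod_update_of_mem (by simp [hpq]),
        Finset.prod_const_one, mul_one, inv_mul_cancel]
    · have e1 : ∑ k, a k * (e k : F) = ∑ k, a k * ((e k : F) - 1) := by
        simp only [mul_sub, mul_one, Finset.sum_sub_distrib, hsum, sub_zero]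
      rw [e1, Finset.sum_eq_add p q hpq (fun k _ hk => by rw [heo k hk.1 hk.2, Units.val_one, sub_self, mul_zero])
        (by simp) (by simp), hep, show e q = t⁻¹ by rw [he, Function.update_self], Units.val_inv_eq_inv_val,
        ← htv]
      field_simp
      ring
    · rw [hep, heo r hr.1 hr.2, one_mul]
      intro h'
      rcases mul_self_eq_one_iff.1 (show (t : F) * t = 1 by rw [← Units.val_mul, h', Units.val_one]) with e1 | e1
      · exact h1 (by rw [← htv, e1, one_mul])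
      · exact h2 (by rw [← htv, e1, neg_one_mul])
  push Not at hcase
  have hsign : ∀ k, k ≠ 0 → a k = a 0 ∨ a 0 + a k = 0 := fun k hk => by
    by_cases h : a k = a 0
    · exact Or.inl h
    · exact Or.inr (by rw [hcase 0 k (Ne.symm hk) h]; ring)
  obtain ⟨q, hq0, hq⟩ : ∃ q : Fin 4, q ≠ 0 ∧ a 0 + a q = 0 := by
    by_contra hno
    push Not at hno
    have e1 := fun k hk => (hsign k hk).resolve_right (hno k hk)
    rw [Fin.sum_univ_four, e1 1 (by decide), e1 2 (by decide), e1 3 (by decide)] at hsum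
    have h2a : (2 : F) = 0 := by
      have : (2 : F) * 2 * a 0 = 0 := by linear_combination hsum
      exact (mul_self_eq_zero.1 ((mul_eq_zero.1 this).resolve_right (ha 0)))
    exact hno 1 (by decide) (by rw [e1 1 (by decide)]; linear_combination a 0 * h2a)
  refine ⟨fun k => if k = 0 ∨ k = q then ν else ν⁻¹, ?_, ?_, ⟨0, q, hq0.symm, by simp⟩, 0, ?_⟩
  · fin_cases q <;> simp_all [Fin.prod_univ_four, mul_assoc]
  · have e1 : ∑ k, a k * (((if k = 0 ∨ k = q then ν else ν⁻¹ : Fˣ)) : F) =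
        ∑ k, a k * ((((if k = 0 ∨ k = q then ν else ν⁻¹ : Fˣ)) : F) - ((ν⁻¹ : Fˣ) : F)) := by
      simp only [mul_sub, Finset.sum_sub_distrib, ← Finset.sum_mul, hsum, zero_mul, sub_zero]
    rw [e1, Finset.sum_eq_add 0 q hq0.symm
      (fun k _ hk => by rw [if_neg (by simp [hk.1, hk.2]), sub_self, mul_zero]) (by simp) (by simp),
      if_pos (Or.inl rfl), if_pos (Or.inr rfl), ← add_mul, hq, zero_mul]
  · obtain ⟨r, -, hr⟩ := Finset.exists_mem_notMem_of_card_lt_card (s := {0, q}) (t := (Finset.univ : Finset (Fin 4)))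
      (lt_of_le_of_lt Finset.card_le_two (by simp))
    simp only [Finset.mem_insert, Finset.mem_singleton, not_or] at hr
    refine ⟨r, ?_⟩
    simp only [true_or, if_true, hr.1, hr.2, or_self, if_false]
    exact fun h' => h4 (by
      calc ν ^ 4 = (ν * ν) * (ν * ν) := by simp only [pow_succ, pow_zero, one_mul, mul_assoc]
        _ = (ν⁻¹ * ν⁻¹) * (ν * ν) := congrArg (· * (ν * ν)) h'
        _ = 1 := by group)

theorem exists_nu_four [Fintype F] (h7 : 7 ≤ Fintype.card F) : ∃ ν : Fˣ, ν ^ 2 ≠ 1 ∧ ν ^ 3 ≠ 1 ∧ ν ^ 4 ≠ 1 := by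
  classical
  obtain ⟨ν, hν⟩ := IsCyclic.exists_generator (α := Fˣ)
  have ho : orderOf ν = Fintype.card F - 1 := by
    rw [orderOf_eq_card_of_forall_mem_zpowers hν, Nat.card_eq_fintype_card, Fintype.card_units]
  have key : ∀ i, 0 < i → i < 5 → ν ^ i ≠ 1 := fun i h0 h5 e => by
    have := Nat.le_of_dvd h0 (orderOf_dvd_of_pow_eq_one e)
    omega
  exact ⟨ν, key 2 (by omega) (by omega), key 3 (by omega) (by omega), key 4 (by omega) (by omega)⟩

/-- some element fixes a coordinate vector -/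
theorem lineCol_four [Fintype F] (hN : ∀ (σ : Equiv.Perm (Fin 4)) (d : Fin 4 → Fˣ),
      (mon σ d : GL (Fin 4) F) ∈ specialLinear (Fin 4) F → mon σ d ∈ M) (h7 : 7 ≤ Fintype.card F)
    {g : GL (Fin 4) F} (hg : g ∈ M) (hgm : ¬ Mono g) : LineCol M := by
  classical
  obtain ⟨ν, h2, h3, h4⟩ := exists_nu_four h7
  by_cases hzg : ∃ i j, (g : M₄) i j = 0
  · obtain ⟨i, j, h⟩ := hzg
    exact lineCol_zero hN h2 h3 h4 hg hgm h
  by_cases hzi : ∃ i j, ((g⁻¹ : GL (Fin 4) F) : M₄) i j = 0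
  · obtain ⟨i, j, h⟩ := hzi
    exact lineCol_zero hN h2 h3 h4 (M.inv_mem hg) (fun h' => hgm (by simpa using h'.inv)) h
  push Not at hzg hzi
  obtain ⟨a, ha⟩ : ∃ a : Fin 4 → F, a = fun k => ((g⁻¹ : GL (Fin 4) F) : M₄) 0 k * (g : M₄) k 1 := ⟨_, rfl⟩
  have hsum : ∑ k, a k = 0 := by
    have e : (((g⁻¹ : GL (Fin 4) F) : M₄) * (g : M₄)) 0 1 = (1 : M₄) 0 1 := by rw [Units.inv_mul]
    rw [Matrix.mul_apply, Matrix.one_apply_ne (by decide)] at e
    rw [ha]
    exact e
  obtain ⟨e, hprod, hzero, ⟨p, q, hpq, heq⟩, i, j, hij⟩ :=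
    exists_zero (fun k => by rw [ha]; exact mul_ne_zero (hzi _ _) (hzg _ _)) hsum h4
  refine lineCol_zero hN h2 h3 h4 (M.mul_mem (M.mul_mem (M.inv_mem hg) (diag_mem hN e hprod)) hg)
    (not_mono_conj hzg hpq heq hij) (p := 0) (l := 1) ?_
  refine (mulVec_single_col _ _ _).symm.trans ?_
  rw [gl_mul_mulVec, gl_mul_mulVec, Matrix.mulVec, dotProduct, ← hzero]
  refine Finset.sum_congr rfl fun k _ => ?_
  rw [diag_mulVec, mulVec_single_col, ha]
  ring

/-- overgroups of the monomial group -/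
theorem monomial_full [Fintype F] (h7 : 7 ≤ Fintype.card F)
    (hN : ∀ (σ : Equiv.Perm (Fin 4)) (d : Fin 4 → Fˣ),
      (mon σ d : GL (Fin 4) F) ∈ specialLinear (Fin 4) F → mon σ d ∈ M)
    (hM : M ≤ specialLinear (Fin 4) F) {g : GL (Fin 4) F} (hg : g ∈ M) (hgm : ¬ Mono g) : fullSub M = ⊤ := by
  obtain ⟨l, y, hy, hfix, hym⟩ := fixes_of_lineCol hN (lineCol_four hN h7 hg hgm)
  exact fullSub_of_fixes hN (by omega) (by simp) (Finset.mem_singleton_self l) hy (hM hy) hfix hym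

end CfsgLib.Perm.Trans.FourLines
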